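import Cfsg.Agent.PresentedOut.Centraliser
import Cfsg.Agent.SporadicOut.Criterion
import Mathlib.GroupTheory.Sylow
import Mathlib.GroupTheory.Subgroup.Simple

/-!
Two classes of automorphisms of a presented group, from a rigid triple `(a, b, c)`: `a` generates a
Sylow subgroup of prime order, `b` normalises it and `c` normalises `⟨b⟩`.
-/

set_option autoImplicit false

namespace CfsgLib.PresentedOut

open CfsgLib.CosetEnum Cfsg.Spor

noncomputable section

/-- The candidate image `(a ^ k, b, w c)` of the triple. -/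
def img3 (k : ℕ) (w : List ℕ) : ℕ → List ℕ
  | 0 => List.replicate k 0
  | 1 => [1]
  | _ => w ++ [2]

/-- Substitute a candidate image. -/
def subst (k : ℕ) (w v : List ℕ) : List ℕ := v.flatMap (img3 k w)

/-- A candidate is one of the two allowed, or breaks a relation. -/
def okImage (tb : ℕ → ℕ) (bs : List ℕ) (rels : List (List ℕ)) (k0 : ℕ) (w0 : List ℕ) (k : ℕ)
    (w : List ℕ) : Bool :=
  decide (k = 1 ∧ w = []) || decide (k = k0 ∧ w = w0) ||
    rels.any fun v => !(sameOn tb bs (subst k w v) [])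

/-- A listed element does not carry the triple to the second image. -/
def sepWord (tb : ℕ → ℕ) (bs : List ℕ) (k0 : ℕ) (w0 w : List ℕ) : Bool :=
  !(sameOn tb bs (w ++ [0]) (img3 k0 w0 0 ++ w)) || !(sameOn tb bs (w ++ [2]) (img3 k0 w0 2 ++ w))

variable {G : Type*} [Group G]

theorem prodw_flatMap (x : ℕ → G) (f : ℕ → List ℕ) :
    ∀ v, prodw x (v.flatMap f) = prodw (fun i => prodw x (f i)) v
  | [] => rfl
  | i :: v => by rw [List.flatMap_cons, prodw_append, prodw_cons, prodw_flatMap x f v]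

theorem map_prodw {K : Type*} [Group K] (f : G →* K) (x : ℕ → G) (v : List ℕ) :
    f (prodw x v) = prodw (fun i => f (x i)) v := by
  simp only [prodw, map_list_prod, List.map_map]
  rfl

theorem prodw_congr {x y : ℕ → G} {v : List ℕ} (h : ∀ i ∈ v, x i = y i) : prodw x v = prodw y v := by
  simp only [prodw]
  rw [List.map_congr_left h]

theorem prodw_const (x : ℕ → G) (k a : ℕ) : prodw x (List.replicate k a) = x a ^ k := by
  simp [prodw, List.map_replicate, List.prod_replicate]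

theorem prodw_img3_zero (x : ℕ → G) (k : ℕ) (w : List ℕ) : prodw x (img3 k w 0) = x 0 ^ k := by
  simp [img3, prodw, List.map_replicate, List.prod_replicate]

theorem img3_lt {k : ℕ} {w : List ℕ} {m : ℕ} (hm : 3 ≤ m) (hw : ∀ a ∈ w, a < m) :
    ∀ i, ∀ a ∈ img3 k w i, a < m := by
  intro i a ha
  match i with
  | 0 => rw [List.eq_of_mem_replicate ha]; omega
  | 1 => rw [List.mem_singleton.mp ha]; omega
  | _ + 2 =>
    rcases List.mem_append.mp ha with h | h
    · exact hw a h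
    · rw [List.mem_singleton.mp h]; omega

theorem subst_lt {k : ℕ} {w : List ℕ} {m : ℕ} (hm : 3 ≤ m) (hw : ∀ a ∈ w, a < m) (v : List ℕ) :
    ∀ a ∈ subst k w v, a < m := by
  intro a ha
  obtain ⟨i, -, hi⟩ := List.mem_flatMap.mp ha
  exact img3_lt hm hw i a hi

/-- What is known of the triple. -/
structure Rigid (x : ℕ → G) (KW : List (List ℕ)) where
  p : ℕ
  r : ℕ
  r' : ℕ
  s : ℕ
  hp : p.Prime
  hr : r * r' % p = 1
  pow_a : x 0 ^ p = 1
  a_ne : x 0 ≠ 1
  a_b : x 0 * x 1 = x 1 * x 0 ^ r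
  b_c : x 1 * x 2 = x 2 * x 1 ^ s
  sylow : ¬ p ^ 2 ∣ Nat.card G
  centA : ∀ g, Commute g (x 0) → ∃ i < p, g = x 0 ^ i
  centB : ∀ g, Commute g (x 1) → ∃ w ∈ KW, g = prodw x w
  shift : ∀ i < p, ∃ t < p, (t + i + r' * (p - t)) % p = 0

theorem Rigid.a_pow_b {x : ℕ → G} {KW : List (List ℕ)} (R : Rigid x KW) (k : ℕ) :
    ∀ j, x 0 ^ k * x 1 ^ j = x 1 ^ j * x 0 ^ (k * R.r ^ j) := by
  intro j
  induction j with
  | zero => simp
  | succ j ih =>
    have h : SemiconjBy (x 1) (x 0 ^ R.r) (x 0) := R.a_b.symm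
    have h' := (h.pow_right (k * R.r ^ j)).eq
    rw [← pow_mul] at h'
    rw [pow_succ, ← mul_assoc, ih, mul_assoc, ← h', ← mul_assoc, ← pow_succ, pow_succ R.r,
      show R.r * (k * R.r ^ j) = k * (R.r ^ j * R.r) by ring]

/-- **Normal form.** Up to inner automorphisms the triple goes to `(a ^ k, b, w c)`. -/
theorem Rigid.normal_form [Finite G] {x : ℕ → G} {KW : List (List ℕ)} (R : Rigid x KW) (K0 : List ℕ)
    (hmove : ∀ k < R.p, k = 0 ∨ ∃ j < R.p, k * R.r ^ j % R.p ∈ K0) (φ : MulAut G) :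
    ∃ g : G, ∃ k ∈ K0, ∃ w ∈ KW, ∀ i < 3, g * φ (x i) * g⁻¹ = prodw x (img3 k w i) := by
  classical
  haveI : Fact R.p.Prime := ⟨R.hp⟩
  have hao : orderOf (x 0) = R.p := orderOf_eq_prime R.pow_a R.a_ne
  have hfac : (Nat.card G).factorization R.p = 1 := by
    have hne : Nat.card G ≠ 0 := Nat.card_pos.ne'
    have h1 : R.p ^ 1 ∣ Nat.card G := by rw [pow_one, ← hao]; exact orderOf_dvd_natCard _
    rw [R.hp.pow_dvd_iff_le_factorization hne] at h1
    have h2 : ¬ 2 ≤ (Nat.card G).factorization R.p := fun h =>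
      R.sylow ((R.hp.pow_dvd_iff_le_factorization hne).mpr h)
    omega
  have hsyl : ∀ u : G, orderOf u = R.p →
      Nat.card (Subgroup.zpowers u) = R.p ^ (Nat.card G).factorization R.p := by
    intro u hu; rw [Nat.card_zpowers, hu, hfac, pow_one]
  let P1 : Sylow R.p G := Sylow.ofCard _ (hsyl (φ (x 0)) (by rw [MulEquiv.orderOf_eq, hao]))
  let P2 : Sylow R.p G := Sylow.ofCard _ (hsyl (x 0) hao)
  obtain ⟨g1, hg1⟩ := MulAction.exists_smul_eq G P1 P2
  have hmem : g1 * φ (x 0) * g1⁻¹ ∈ Subgroup.zpowers (x 0) := by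
    have h2 : g1 * φ (x 0) * g1⁻¹ ∈ (↑(g1 • P1) : Subgroup G) := by
      rw [Sylow.coe_subgroup_smul]
      exact Subgroup.smul_mem_pointwise_smul (φ (x 0)) (MulAut.conj g1) _ (Subgroup.mem_zpowers _)
    rw [hg1] at h2
    exact h2
  obtain ⟨k, hk, hka⟩ : ∃ k < R.p, x 0 ^ k = g1 * φ (x 0) * g1⁻¹ := by
    obtain ⟨k, hk, he⟩ := Finset.mem_image.1 (mem_zpowers_iff_mem_range_orderOf.1 hmem)
    exact ⟨k, by simpa [hao] using hk, he⟩
  have hk0 : k ≠ 0 := by
    rintro rfl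
    rw [pow_zero, eq_comm, mul_inv_eq_one] at hka
    exact R.a_ne (φ.injective ((mul_left_cancel (hka.trans (mul_one g1).symm)).trans (map_one φ).symm))
  obtain ⟨j, -, hj⟩ := (hmove k hk).resolve_left hk0
  set k1 := k * R.r ^ j % R.p with hk1
  let ψ : MulAut G := MulAut.conj ((x 1 ^ j)⁻¹ * g1) * φ
  have hψa : ψ (x 0) = x 0 ^ k1 := by
    show (x 1 ^ j)⁻¹ * g1 * φ (x 0) * ((x 1 ^ j)⁻¹ * g1)⁻¹ = _
    rw [show (x 1 ^ j)⁻¹ * g1 * φ (x 0) * ((x 1 ^ j)⁻¹ * g1)⁻¹ =
      (x 1 ^ j)⁻¹ * (g1 * φ (x 0) * g1⁻¹) * x 1 ^ j by group, ← hka, mul_assoc, R.a_pow_b,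
      inv_mul_cancel_left, hk1, ← hao, pow_mod_orderOf]
  have hk1lt : k1 < R.p := Nat.mod_lt _ R.hp.pos
  have hk1ne : k1 ≠ 0 := fun h0 => by
    rw [h0, pow_zero] at hψa
    exact R.a_ne (ψ.injective (hψa.trans (map_one ψ).symm))
  obtain ⟨k', hk'⟩ : ∃ k', (x 0 ^ k1) ^ k' = x 0 :=
    exists_pow_eq_self_of_coprime (by
      rw [hao]
      exact (R.hp.coprime_iff_not_dvd.2 fun h =>
        hk1ne (Nat.eq_zero_of_dvd_of_lt h hk1lt)).symm)
  have hya : x 0 * ψ (x 1) = ψ (x 1) * x 0 ^ R.r := by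
    have e := congrArg ψ R.a_b
    rw [map_mul, map_mul, map_pow, hψa] at e
    have e' : SemiconjBy (ψ (x 1)) ((x 0 ^ k1) ^ R.r) (x 0 ^ k1) := e.symm
    have e2 := (e'.pow_right k').eq
    rw [← pow_mul, mul_comm R.r k', pow_mul, hk'] at e2
    exact e2.symm
  have hcA : Commute (ψ (x 1) * (x 1)⁻¹) (x 0) := by
    show ψ (x 1) * (x 1)⁻¹ * x 0 = x 0 * (ψ (x 1) * (x 1)⁻¹)
    rw [← mul_assoc, hya, mul_assoc, mul_assoc]
    congr 1
    rw [inv_mul_eq_iff_eq_mul, ← mul_assoc, ← R.a_b, mul_inv_cancel_right]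
  obtain ⟨i, hi, hiy⟩ := R.centA _ hcA
  obtain ⟨t, ht, hts⟩ := R.shift i hi
  let χ : MulAut G := MulAut.conj (x 0 ^ t) * ψ
  have hχa : χ (x 0) = x 0 ^ k1 := by
    show x 0 ^ t * ψ (x 0) * (x 0 ^ t)⁻¹ = _
    rw [hψa, ← pow_add, Nat.add_comm, pow_add, mul_inv_cancel_right]
  have hχb : χ (x 1) = x 1 := by
    show x 0 ^ t * ψ (x 1) * (x 0 ^ t)⁻¹ = x 1
    have hinv : (x 0 ^ t)⁻¹ = x 0 ^ (R.p - t) := by
      refine inv_eq_of_mul_eq_one_right ?_
      rw [← pow_add, Nat.add_sub_cancel' ht.le, R.pow_a]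
    have hby : x 1 * x 0 ^ (R.p - t) = x 0 ^ (R.r' * (R.p - t)) * x 1 := by
      have := R.a_pow_b (R.r' * (R.p - t)) 1
      rw [pow_one, pow_one] at this
      rw [this]
      congr 1
      rw [← pow_mod_orderOf (x 0) (R.r' * (R.p - t) * R.r), hao,
        show R.r' * (R.p - t) * R.r = (R.r * R.r') * (R.p - t) by ring, Nat.mul_mod, R.hr, one_mul,
        Nat.mod_mod, ← hao, pow_mod_orderOf]
    have hψb : ψ (x 1) = x 0 ^ i * x 1 := by rw [← hiy, inv_mul_cancel_right]
    rw [hψb, hinv, ← mul_assoc, ← pow_add, mul_assoc, hby, ← mul_assoc, ← pow_add,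
      ← pow_mod_orderOf, hao, hts, pow_zero, one_mul]
  have hcB : Commute (χ (x 2) * (x 2)⁻¹) (x 1) := by
    have e := congrArg χ R.b_c
    rw [map_mul, map_mul, map_pow, hχb] at e
    show χ (x 2) * (x 2)⁻¹ * x 1 = x 1 * (χ (x 2) * (x 2)⁻¹)
    rw [← mul_assoc, e, mul_assoc, mul_assoc]
    congr 1
    rw [inv_mul_eq_iff_eq_mul, ← mul_assoc, ← R.b_c, mul_inv_cancel_right]
  obtain ⟨w, hw, hwc⟩ := R.centB _ hcB
  refine ⟨x 0 ^ t * ((x 1 ^ j)⁻¹ * g1), k1, hj, w, hw, ?_⟩
  have hall : ∀ u : G, x 0 ^ t * ((x 1 ^ j)⁻¹ * g1) * φ u * (x 0 ^ t * ((x 1 ^ j)⁻¹ * g1))⁻¹ = χ u := by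
    intro u
    show _ = x 0 ^ t * ((x 1 ^ j)⁻¹ * g1 * φ u * ((x 1 ^ j)⁻¹ * g1)⁻¹) * (x 0 ^ t)⁻¹
    group
  intro l hl
  rw [hall]
  interval_cases l
  · rw [hχa, prodw_img3_zero]
  · rw [hχb]; simp [img3, prodw]
  · show χ (x 2) = prodw x (w ++ [2])
    rw [prodw_append, ← hwc]
    simp [prodw]

section Presented

variable {α : Type} [DecidableEq α] (S : Setup α)

theorem lift_eq_one {K : Type} [Group K] (f : α → K)
    (h : ∀ w ∈ S.words, prodw (f ∘ S.en) w = 1) :
    ∀ r ∈ coxRelators S.edges ∪ {r | r ∈ S.extra}, FreeGroup.lift f r = 1 := by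
  have hsq : ∀ a, f a * f a = 1 := fun a => by
    have hw : [S.ix a, S.ix a] ∈ S.words := by
      rw [S.words_eq]
      refine List.mem_append_left _ (mem_coxWords.mpr ⟨S.ix a, S.ix a, S.ix_lt a, S.ix_lt a, le_rfl, ?_⟩)
      simp [coxLabel]
    have := h _ hw
    simpa [prodw, S.en_ix] using this
  rintro r (⟨a, -, b, -, rfl⟩ | hr)
  · have hpair : ∀ i j, i < S.k → j < S.k → i ≤ j →
        (f (S.en i) * f (S.en j)) ^ coxLabel S.edges (S.en i) (S.en j) = 1 := by
      intro i j hi hj hij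
      have := h _ (show (List.replicate (coxLabel S.edges (S.en i) (S.en j)) [i, j]).flatten ∈ S.words by
        rw [S.words_eq]; exact List.mem_append_left _ (mem_coxWords.mpr ⟨i, j, hi, hj, hij, rfl⟩))
      rw [prodw_replicate] at this
      simpa [prodw] using this
    rw [map_pow, map_mul, FreeGroup.lift_apply_of, FreeGroup.lift_apply_of]
    rcases le_total (S.ix a) (S.ix b) with hab | hab
    · have := hpair _ _ (S.ix_lt a) (S.ix_lt b) hab
      rwa [S.en_ix, S.en_ix] at this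
    · have := hpair _ _ (S.ix_lt b) (S.ix_lt a) hab
      rw [S.en_ix, S.en_ix, coxLabel_symm] at this
      have h' : f a * f b = (f b * f a)⁻¹ := by
        rw [mul_inv_rev, inv_eq_of_mul_eq_one_right (hsq a), inv_eq_of_mul_eq_one_right (hsq b)]
      rw [h', inv_pow, this, inv_one]
  · have hm : FreeGroup.lift f r ∈ S.extra.map (FreeGroup.lift f) := List.mem_map_of_mem hr
    rw [S.exW_eq _ f hsq] at hm
    obtain ⟨w, hw, hw'⟩ := List.mem_map.mp hm
    rw [← hw']
    exact h w (by rw [S.words_eq]; exact List.mem_append_right _ hw)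

variable {S} {n : ℕ} {φ : S.Grp →* Equiv.Perm (Fin n)} {tbS tb : ℕ → ℕ} {bs : List ℕ}

/-- Compare a word in the generators with a word in the family. -/
def sameTwo (tbS tb : ℕ → ℕ) (bs : List ℕ) (v w : List ℕ) : Bool :=
  bs.all fun i => Nat.beq (walk tbS v i) (walk tb w i)

theorem eq_of_sameTwo (hB : IsBase φ bs) (hφ : HasTables φ S.g S.k tbS) {x : ℕ → S.Grp} {m : ℕ}
    (hx : HasTables φ x m tb) {v w : List ℕ} (hv : ∀ a ∈ v, a < S.k) (hw : ∀ a ∈ w, a < m)
    (h : sameTwo tbS tb bs v w = true) : prodw S.g v = prodw x w := by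
  refine hB _ _ fun i hi => Fin.ext ?_
  rw [img_prodw hφ v hv, img_prodw hx w hw]
  exact Nat.eq_of_beq_eq_true (List.all_eq_true.mp h _ hi)

/-- **Two classes of automorphisms.** The words `GW` write the generators in the triple; the second
image `(a ^ k0, b, w0 c)` defines an automorphism, and every other candidate breaks a relation. -/
theorem card_out_eq_two [Finite S.Grp] [IsSimpleGroup S.Grp] (hB : IsBase φ bs)
    (hbs : ∀ i ∈ bs, i < n) (hφ : HasTables φ S.g S.k tbS) {W : List (List ℕ)}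
    (hW : ∀ v ∈ W, ∀ a ∈ v, a < S.k) {m : ℕ} (hm : 3 ≤ m)
    {x : ℕ → S.Grp} (hxW : ∀ i, x i = prodw S.g (W.getD i [])) (hx : HasTables φ x m tb)
    {KW : List (List ℕ)} (hKW : ∀ w ∈ KW, ∀ a ∈ w, a < m)
    (R : Rigid x KW) (K0 : List ℕ)
    (hmove : ∀ k < R.p, k = 0 ∨ ∃ j < R.p, k * R.r ^ j % R.p ∈ K0)
    (GW : ℕ → List ℕ) (hGWlt : ∀ i < S.k, ∀ a ∈ GW i, a < 3)
    (hgen : ∀ i < S.k, sameTwo tbS tb bs [i] (GW i) = true)
    (rels : List (List ℕ)) (hrelslt : ∀ v ∈ rels, ∀ a ∈ v, a < 3)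
    (hrels : ∀ v ∈ rels, sameOn tb bs v [] = true)
    (k0 : ℕ) (w0 : List ℕ) (hw0 : w0 ∈ KW) (hk0 : k0 < R.p ∧ 0 < k0)
    (hok : ∀ k ∈ K0, ∀ w ∈ KW, okImage tb bs rels k0 w0 k w = true)
    (hpi : ∀ v ∈ S.words, sameOn tb bs (subst k0 w0 (v.flatMap GW)) [] = true)
    (hpix : ∀ i < 3, sameOn tb bs (subst k0 w0 ((W.getD i []).flatMap GW)) (img3 k0 w0 i) = true)
    (hsep : ∀ w ∈ KW, sepWord tb bs k0 w0 w = true) :
    Nat.card (Cfsg.Out S.Grp) = 2 := by
  classical
  have hWlt : ∀ i, ∀ a ∈ W.getD i [], a < S.k := by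
    intro i
    by_cases hi : i < W.length
    · rw [List.getD_eq_getElem _ _ hi]; exact hW _ (List.getElem_mem hi)
    · rw [List.getD_eq_default _ _ (Nat.le_of_not_lt hi)]; simp
  have h3m : ∀ v : List ℕ, (∀ a ∈ v, a < 3) → ∀ a ∈ v, a < m := fun v hv a ha => by
    have := hv a ha; omega
  have hGx : ∀ i < S.k, S.g i = prodw x (GW i) := fun i hi => by
    have := eq_of_sameTwo hB hφ hx (v := [i]) (by simpa using hi) (h3m _ (hGWlt i hi)) (hgen i hi)
    simpa [prodw] using this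
  let y : ℕ → S.Grp := fun i => prodw x (img3 k0 w0 i)
  have hw0lt := hKW w0 hw0
  -- the automorphism
  let f : α → S.Grp := fun a => prodw y (GW (S.ix a))
  have hf : ∀ v : List ℕ, (∀ a ∈ v, a < S.k) →
      prodw (f ∘ S.en) v = prodw x (subst k0 w0 (v.flatMap GW)) := by
    intro v hv
    rw [subst, prodw_flatMap, prodw_flatMap]
    refine prodw_congr fun a ha => ?_
    show prodw y (GW (S.ix (S.en a))) = prodw y (GW a)
    rw [S.ix_en a (hv a ha)]
  have hwlt : ∀ v ∈ S.words, ∀ a ∈ v, a < S.k := by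
    intro v hv a ha
    rw [S.words_eq, List.mem_append] at hv
    rcases hv with hv | hv
    · obtain ⟨i, j, hi, hj, -, rfl⟩ := mem_coxWords.mp hv
      simp only [List.mem_flatten, List.mem_replicate] at ha
      obtain ⟨l, ⟨-, rfl⟩, ha⟩ := ha
      rcases List.mem_pair.mp ha with rfl | rfl <;> assumption
    · exact S.exW_lt v hv a ha
  have hone : ∀ v ∈ S.words, prodw (f ∘ S.en) v = 1 := by
    intro v hv
    rw [hf v (hwlt v hv), ← prodw_nil x]
    exact eq_of_sameOn hB hx (subst_lt hm hw0lt _) (by simp) (hpi v hv)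
  let π₀ : S.Grp →* S.Grp := PresentedGroup.toGroup (lift_eq_one S f hone)
  have hπg : ∀ v, π₀ (prodw S.g v) = prodw (f ∘ S.en) v := fun v => by
    rw [map_prodw]
    refine prodw_congr fun a _ => ?_
    exact PresentedGroup.toGroup.of (lift_eq_one S f hone)
  have hπx : ∀ i < 3, π₀ (x i) = y i := by
    intro i hi
    rw [hxW, hπg, hf _ (hWlt i)]
    exact eq_of_sameOn hB hx (subst_lt hm hw0lt _) (img3_lt hm hw0lt i) (hpix i hi)
  have hπinj : Function.Injective π₀ := by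
    rw [← MonoidHom.ker_eq_bot_iff]
    refine (π₀.normal_ker.eq_bot_or_eq_top).resolve_right fun htop => ?_
    have h1 : π₀ (x 0) = 1 := MonoidHom.mem_ker.mp (htop ▸ Subgroup.mem_top _)
    rw [hπx 0 (by norm_num)] at h1
    have h2 : x 0 ^ k0 = 1 := (prodw_img3_zero x k0 w0).symm.trans h1
    haveI : Fact R.p.Prime := ⟨R.hp⟩
    have h3 := orderOf_dvd_of_pow_eq_one h2
    rw [orderOf_eq_prime R.pow_a R.a_ne] at h3
    exact absurd (Nat.le_of_dvd hk0.2 h3) (Nat.not_le.mpr hk0.1)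
  let π : MulAut S.Grp := MulEquiv.ofBijective π₀ (Finite.injective_iff_bijective.mp hπinj)
  have hgenTop : Subgroup.closure (Set.range fun i : Fin 3 => x i.val) = ⊤ := by
    rw [eq_top_iff, ← PresentedGroup.closure_range_of, Subgroup.closure_le]
    rintro _ ⟨a, rfl⟩
    rw [show (PresentedGroup.of a : S.Grp) = S.g (S.ix a) by rw [Setup.g, S.en_ix], hGx _ (S.ix_lt a)]
    refine Subgroup.list_prod_mem _ fun u hu => ?_
    obtain ⟨i, hi, rfl⟩ := List.mem_map.mp hu
    exact Subgroup.subset_closure ⟨⟨i, hGWlt _ (S.ix_lt a) i hi⟩, rfl⟩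
  refine CfsgLib.SporadicOut.card_out_eq_two (fun i : Fin 3 => x i.val) hgenTop π (fun θ => ?_)
    (fun g => ?_)
  · obtain ⟨g, k, hk, w, hw, hg⟩ := R.normal_form K0 hmove θ
    let χ : MulAut S.Grp := MulAut.conj g * θ
    have hχ : ∀ i < 3, χ (x i) = prodw x (img3 k w i) := hg
    have h := hok k hk w hw
    simp only [okImage, Bool.or_eq_true, decide_eq_true_eq, List.any_eq_true,
      Bool.not_eq_true'] at h
    rcases h with (⟨rfl, rfl⟩ | ⟨rfl, rfl⟩) | ⟨v, hv, hbad⟩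
    · refine ⟨g, Or.inl fun i => ?_⟩
      have hh := hg i.val i.isLt
      obtain ⟨i, hi⟩ := i
      interval_cases i <;> simpa [img3, prodw] using hh
    · exact ⟨g, Or.inr fun i => (hg i.val i.isLt).trans (hπx i.val i.isLt).symm⟩
    · exfalso
      have h1 : prodw x v = 1 := by
        rw [← prodw_nil x]
        exact eq_of_sameOn hB hx (h3m v (hrelslt v hv)) (by simp) (hrels v hv)
      have h2 : prodw x (subst k w v) = prodw x [] := by
        rw [subst, prodw_flatMap, prodw_nil, ← map_one χ, ← h1]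
        show _ = χ.toMonoidHom (prodw x v)
        rw [map_prodw]
        exact prodw_congr fun a ha => (hχ a (hrelslt v hv a ha)).symm
      rw [sameOn_of_eq hbs hx (subst_lt hm (hKW w hw) v) (by simp) h2] at hbad
      exact Bool.noConfusion hbad
  · by_contra hall
    simp only [not_exists, not_not] at hall
    have hall' : ∀ i < 3, g * x i = y i * g := fun i hi => by
      have h := hall ⟨i, hi⟩
      have h' : g * x i * g⁻¹ = y i := h.trans (hπx i hi)
      exact mul_inv_eq_iff_eq_mul.mp h'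
    have hcomm : Commute g (x 1) := by
      have h := hall' 1 (by norm_num)
      show g * x 1 = x 1 * g
      rw [h]
      congr 1
      simp [y, img3, prodw]
    obtain ⟨w, hw, rfl⟩ := R.centB g hcomm
    have h := hsep w hw
    have key : ∀ i, i < 3 → sameOn tb bs (w ++ [i]) (img3 k0 w0 i ++ w) = true := by
      intro i hi
      refine sameOn_of_eq hbs hx ?_ ?_ ?_
      · intro a ha
        rcases List.mem_append.mp ha with ha | ha
        · exact hKW w hw a ha
        · rw [List.mem_singleton.mp ha]; omega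
      · intro a ha
        rcases List.mem_append.mp ha with ha | ha
        · exact img3_lt hm hw0lt i a ha
        · exact hKW w hw a ha
      · rw [prodw_append, prodw_append]
        simpa [prodw, y] using hall' i hi
    rw [sepWord, key 0 (by norm_num), key 2 (by norm_num)] at h
    exact Bool.noConfusion h

end Presented

end

end CfsgLib.PresentedOut
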