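import Cfsg.Agent.CosetEnum.Cox
import Cfsg.Agent.CosetEnum.Lower

/-!
A faithful coset action of a presented group, seen from the right: base points, invariant relations
between pairs of points, and tables of words.
-/

set_option autoImplicit false

namespace CfsgLib.PresentedOut

open CfsgLib.CosetEnum

noncomputable section

variable {G : Type*} [Group G] {n : ℕ}

/-- The right action attached to `φ`. -/
def img (φ : G →* Equiv.Perm (Fin n)) (y : G) (i : Fin n) : Fin n := (φ y)⁻¹ i

theorem img_one (φ : G →* Equiv.Perm (Fin n)) (i : Fin n) : img φ 1 i = i := by simp [img]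

theorem img_mul (φ : G →* Equiv.Perm (Fin n)) (x y : G) (i : Fin n) :
    img φ (x * y) i = img φ y (img φ x i) := by simp [img]

theorem img_inv_img (φ : G →* Equiv.Perm (Fin n)) (x : G) (i : Fin n) :
    img φ x⁻¹ (img φ x i) = i := by rw [← img_mul, mul_inv_cancel, img_one]

/-- The points of a list form a base: they determine an element. -/
def IsBase (φ : G →* Equiv.Perm (Fin n)) (bs : List ℕ) : Prop :=
  ∀ g h : G, (∀ i : Fin n, i.val ∈ bs → img φ g i = img φ h i) → g = h

theorem isBase_of_card {φ : G →* Equiv.Perm (Fin n)} (hinj : Function.Injective φ) {bs : List ℕ}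
    (h : Nat.card (fixK φ bs) ≤ 1) : IsBase φ bs := by
  intro g k hgk
  have hmem : φ (g * k⁻¹) ∈ fixK φ bs := by
    refine ⟨⟨_, rfl⟩, fun i hi => ?_⟩
    have h1 : img φ (g * k⁻¹) i = i := by rw [img_mul, hgk i hi, img_inv_img]
    unfold img at h1
    exact (Equiv.Perm.inv_eq_iff_eq.mp h1).symm
  haveI : Subsingleton (fixK φ bs) :=
    Finite.card_le_one_iff_subsingleton.mp h
  have h2 : (⟨_, hmem⟩ : fixK φ bs) = 1 := Subsingleton.elim _ _
  have h3 : φ (g * k⁻¹) = φ 1 := by rw [map_one]; exact congrArg Subtype.val h2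
  exact mul_inv_eq_one.mp (hinj h3)

/-- A family of elements has the given tables on the first `m` letters. -/
def HasTables (φ : G →* Equiv.Perm (Fin n)) (x : ℕ → G) (m : ℕ) (tb : ℕ → ℕ) : Prop :=
  ∀ k < m, ∀ i : Fin n, (img φ (x k) i).val = T tb k i

theorem img_prodw {φ : G →* Equiv.Perm (Fin n)} {x : ℕ → G} {m : ℕ} {tb : ℕ → ℕ}
    (h : HasTables φ x m tb) : ∀ (w : List ℕ), (∀ k ∈ w, k < m) → ∀ i : Fin n,
      (img φ (prodw x w) i).val = walk tb w i
  | [], _, i => by rw [prodw_nil, img_one]; rfl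
  | k :: w, hw, i => by
    rw [prodw_cons, img_mul, img_prodw h w (fun a ha => hw a (List.mem_cons_of_mem k ha)),
      h k (hw k List.mem_cons_self)]
    rfl

/-- Two words act alike on the points of a list. -/
def sameOn (tb : ℕ → ℕ) (bs : List ℕ) (v w : List ℕ) : Bool :=
  bs.all fun i => Nat.beq (walk tb v i) (walk tb w i)

theorem eq_of_sameOn {φ : G →* Equiv.Perm (Fin n)} {bs : List ℕ} (hB : IsBase φ bs) {x : ℕ → G}
    {m : ℕ} {tb : ℕ → ℕ} (hx : HasTables φ x m tb) {v w : List ℕ} (hv : ∀ k ∈ v, k < m)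
    (hw : ∀ k ∈ w, k < m) (h : sameOn tb bs v w = true) : prodw x v = prodw x w := by
  refine hB _ _ fun i hi => Fin.ext ?_
  rw [img_prodw hx v hv, img_prodw hx w hw]
  exact Nat.eq_of_beq_eq_true (List.all_eq_true.mp h _ hi)

theorem sameOn_of_eq {φ : G →* Equiv.Perm (Fin n)} {bs : List ℕ} (hbs : ∀ i ∈ bs, i < n) {x : ℕ → G}
    {m : ℕ} {tb : ℕ → ℕ} (hx : HasTables φ x m tb) {v w : List ℕ} (hv : ∀ k ∈ v, k < m)
    (hw : ∀ k ∈ w, k < m) (h : prodw x v = prodw x w) : sameOn tb bs v w = true := by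
  refine List.all_eq_true.mpr fun i hi => ?_
  have h1 := img_prodw hx v hv ⟨i, hbs i hi⟩
  rw [h, img_prodw hx w hw] at h1
  show Nat.beq (walk tb v i) (walk tb w i) = true
  rw [show walk tb v i = walk tb w i from h1.symm]
  exact Nat.beq_refl _

/-- The class of a point, two bits per point, and three for the base coset. -/
def cls (C i : ℕ) : ℕ := Nat.land (Nat.shiftRight C (Nat.mul 3 i)) 7

/-- The class is constant along a word. -/
def clsEntry (n : ℕ) (tb : ℕ → ℕ) (sW : List (List ℕ)) (C i : ℕ) : Bool :=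
  bif Nat.blt i n then sW.all fun w => Nat.beq (cls C (walk tb w i)) (cls C i) else true

/-- The class of `j` seen from `i`, computed down the tree. -/
def rel (tb : ℕ → ℕ) (parN parX C fuel i j : ℕ) : ℕ :=
  Nat.rec (motive := fun _ => ℕ → ℕ → ℕ) (fun _ j => cls C j)
    (fun _ ih i j => bif Nat.beq i 0 then cls C j
      else force (ext parN i) fun a => force (T tb (ext parX i) j) fun b => ih a b) fuel i j

/-- The tree reaches `0` within the fuel. -/
def down (parN fuel i : ℕ) : Bool :=
  Nat.rec (motive := fun _ => ℕ → Bool) (fun i => Nat.beq i 0)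
    (fun _ ih i => Nat.beq i 0 || force (ext parN i) fun a => ih a) fuel i

/-- A relation on points preserved by all elements. -/
def IsInvariant (φ : G →* Equiv.Perm (Fin n)) (R : ℕ → ℕ → ℕ) : Prop :=
  ∀ (g : G) (i j : Fin n), R (img φ g i).val (img φ g j).val = R i.val j.val

section Rel

variable {α : Type} [DecidableEq α] {S : Setup α} {E : Enum S}
  {φ : S.Grp →* Equiv.Perm (Fin E.n)} {d : ℕ}

theorem rel_eq (hd : E.n ≤ 2 ^ d)
    (hφ : ∀ (w : List ℕ), (∀ x ∈ w, x < S.k) → ∀ i : Fin E.n,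
      ((φ (prodw S.g w))⁻¹ i).val = walk E.tb w i)
    (htree : allR (treeOK E.n S.k E.tb E.parN E.parX) d 0 = true) (C : ℕ) :
    ∀ (fuel : ℕ) (i j : Fin E.n), down E.parN fuel i = true →
      rel E.tb E.parN E.parX C fuel i j = cls C (img φ (crOf S.g E.parN E.parX i.val)⁻¹ j).val := by
  intro fuel
  induction fuel with
  | zero =>
    intro i j h
    show cls C j = _
    rw [show i.val = 0 from Nat.eq_of_beq_eq_true h, crOf_zero, inv_one, img_one]
  | succ f ih =>
    intro i j h
    show (bif Nat.beq i.val 0 then cls C j.val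
      else force (ext E.parN i) fun a => force (T E.tb (ext E.parX i) j) fun b =>
        rel E.tb E.parN E.parX C f a b) = _
    change (Nat.beq i.val 0 || force (ext E.parN i) fun a => down E.parN f a) = true at h
    cases hi : Nat.beq i.val 0
    · simp only [cond_false, force_eq]
      simp only [hi, Bool.false_or, force_eq] at h
      have h0 : i.val ≠ 0 := fun h0 => by rw [h0] at hi; exact Bool.noConfusion hi
      have ht := allR_spec d 0 htree i (Nat.zero_le _) (by omega)
      unfold treeOK at ht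
      rw [show (Nat.blt i.val E.n && Nat.blt 0 i.val) = true by
        simp [Nat.pos_of_ne_zero h0]] at ht
      simp only [cond_true, Bool.and_eq_true, Nat.blt_eq] at ht
      obtain ⟨hlt, hx, -⟩ := ht
      have hwalk : ∀ p : Fin E.n, (img φ (S.g (ext E.parX i.val)) p).val = T E.tb (ext E.parX i) p := by
        intro p
        have h1 := hφ [ext E.parX i.val] (by simpa using hx) p
        rw [show prodw S.g [ext E.parX i.val] = S.g (ext E.parX i.val) by simp [prodw]] at h1
        exact h1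
      rw [crOf_step _ _ _ _ hlt, mul_inv_rev, img_mul, ← S.hiv _ hx hx, ← hwalk j]
      exact ih ⟨ext E.parN i.val, by omega⟩ _ h
    · rw [cond_true, show i.val = 0 from Nat.eq_of_beq_eq_true hi, crOf_zero, inv_one, img_one]

theorem img_crOf (hd : E.n ≤ 2 ^ d) (h0 : 0 < E.n)
    (hφ : ∀ (w : List ℕ), (∀ x ∈ w, x < S.k) → ∀ i : Fin E.n,
      ((φ (prodw S.g w))⁻¹ i).val = walk E.tb w i)
    (htree : allR (treeOK E.n S.k E.tb E.parN E.parX) d 0 = true) :
    ∀ i : Fin E.n, img φ (crOf S.g E.parN E.parX i.val) ⟨0, h0⟩ = i := by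
  suffices h : ∀ m, ∀ hm : m < E.n, (img φ (crOf S.g E.parN E.parX m) ⟨0, h0⟩).val = m from
    fun i => Fin.ext (h i.val i.isLt)
  intro m
  induction m using Nat.strong_induction_on with
  | _ m ih =>
    intro hm
    rcases Nat.eq_zero_or_pos m with rfl | hpos
    · rw [crOf_zero, img_one]
    · have ht := allR_spec d 0 htree m (Nat.zero_le _) (by omega)
      unfold treeOK at ht
      rw [show (Nat.blt m E.n && Nat.blt 0 m) = true by simp [hm, hpos]] at ht
      simp only [cond_true, Bool.and_eq_true, Nat.blt_eq] at ht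
      obtain ⟨hlt, hx, hT⟩ := ht
      rw [crOf_step _ _ _ _ hlt, img_mul]
      have h1 := hφ [ext E.parX m] (by simpa using hx)
        (img φ (crOf S.g E.parN E.parX (ext E.parN m)) ⟨0, h0⟩)
      rw [show prodw S.g [ext E.parX m] = S.g (ext E.parX m) by simp [prodw]] at h1
      refine h1.trans ?_
      rw [ih _ hlt (by omega)]
      exact Nat.eq_of_beq_eq_true hT

theorem isInvariant_rel (hd : E.n ≤ 2 ^ d) (h0 : 0 < E.n)
    (hφ : ∀ (w : List ℕ), (∀ x ∈ w, x < S.k) → ∀ i : Fin E.n,
      ((φ (prodw S.g w))⁻¹ i).val = walk E.tb w i)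
    (e : S.Grp ⧸ E.H ≃ Fin E.n) (he : ∀ (y : S.Grp) (q : S.Grp ⧸ E.H), e (y • q) = φ y (e q))
    (he0 : (e ((1 : S.Grp) : S.Grp ⧸ E.H)).val = 0)
    (htree : allR (treeOK E.n S.k E.tb E.parN E.parX) d 0 = true) (C fuel : ℕ)
    (hdown : allR (fun i => bif Nat.blt i E.n then down E.parN fuel i else true) d 0 = true)
    (hcls : allR (clsEntry E.n E.tb E.sW C) d 0 = true) :
    IsInvariant φ (rel E.tb E.parN E.parX C fuel) := by
  have hdn : ∀ i : Fin E.n, down E.parN fuel i = true := fun i => by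
    have := allR_spec d 0 hdown i (Nat.zero_le _) (by omega)
    rwa [show Nat.blt i.val E.n = true by simp, cond_true] at this
  have hstab : ∀ z : S.Grp, img φ z ⟨0, h0⟩ = ⟨0, h0⟩ → z ∈ E.H := by
    intro z hz
    unfold img at hz
    have h1 : φ z ⟨0, h0⟩ = ⟨0, h0⟩ := (Equiv.Perm.inv_eq_iff_eq.mp hz).symm
    have h2 : e (z • ((1 : S.Grp) : S.Grp ⧸ E.H)) = e ((1 : S.Grp) : S.Grp ⧸ E.H) := by
      rw [he, show e ((1 : S.Grp) : S.Grp ⧸ E.H) = (⟨0, h0⟩ : Fin E.n) from Fin.ext he0, h1]
    have h3 : ((z * 1 : S.Grp) : S.Grp ⧸ E.H) = ((1 : S.Grp) : S.Grp ⧸ E.H) := e.injective h2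
    rw [mul_one, QuotientGroup.eq, mul_one] at h3
    exact inv_mem_iff.mp h3
  have hinv : ∀ z ∈ E.H, ∀ j : Fin E.n, cls C (img φ z j).val = cls C j.val := by
    intro z hz
    induction hz using Subgroup.closure_induction with
    | mem y hy =>
      obtain ⟨s, hs, rfl⟩ := hy
      intro j
      have hs' : s < E.sW.length := hs
      have hw : E.sW.getD s [] ∈ E.sW := by
        rw [List.getD_eq_getElem _ _ hs']; exact List.getElem_mem hs'
      have h1 := allR_spec d 0 hcls j (Nat.zero_le _) (by omega)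
      unfold clsEntry at h1
      rw [show Nat.blt j.val E.n = true by simp, cond_true] at h1
      show cls C (((φ (prodw S.g (E.sW.getD s [])))⁻¹ j).val) = _
      rw [hφ _ (E.sW_lt _ hw)]
      exact Nat.eq_of_beq_eq_true (List.all_eq_true.mp h1 _ hw)
    | one => intro j; rw [img_one]
    | mul y z _ _ h1 h2 => intro j; rw [img_mul, h2, h1]
    | inv y _ h1 =>
      intro j
      conv_rhs => rw [show j = img φ y (img φ y⁻¹ j) by rw [← img_mul, inv_mul_cancel, img_one]]
      rw [h1]
  intro g i j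
  rw [rel_eq hd hφ htree C fuel _ _ (hdn _), rel_eq hd hφ htree C fuel _ _ (hdn _)]
  set a := crOf S.g E.parN E.parX i.val with ha
  set a' := crOf S.g E.parN E.parX (img φ g i).val with ha'
  have hz : a * g * a'⁻¹ ∈ E.H := by
    refine hstab _ ?_
    rw [img_mul, img_mul, ha, img_crOf hd h0 hφ htree i]
    conv_lhs => rw [← img_crOf hd h0 hφ htree (img φ g i), img_inv_img]
  rw [← hinv _ hz (img φ a⁻¹ j), ← img_mul φ a⁻¹, show a⁻¹ * (a * g * a'⁻¹) = g * a'⁻¹ by group, img_mul]

end Rel

end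

end CfsgLib.PresentedOut
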