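import Cfsg.Agent.PresentedOut.Basic

/-!
Certified search for the centraliser of an element, through the images of four base points.
-/

set_option autoImplicit false

namespace CfsgLib.PresentedOut

open CfsgLib.CosetEnum

noncomputable section

/-- The first `m` translates of `(i, j)` and of `(k, l)` are related alike. -/
def same (R : ℕ → ℕ → ℕ) (U m i j k l : ℕ) : Bool :=
  Nat.rec (motive := fun _ => ℕ → ℕ → Bool) (fun _ _ => true)
    (fun _ ih j l => Nat.beq (R i j) (R k l) &&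
      force (ext U j) fun a => force (ext U l) fun b => ih a b) m j l

/-- Membership in a list of numbers. -/
def memN (L : List ℕ) (q : ℕ) : Bool := L.any fun a => Nat.beq a q

/-- Every point with the profile of `b` is listed. -/
def profEntry (R : ℕ → ℕ → ℕ) (n U m b : ℕ) (L : List ℕ) (q : ℕ) : Bool :=
  bif Nat.blt q n then !(same R U m b (ext U b) q (ext U q)) || memN L q else true

/-- Every compatible quadruple is the image of the base under a listed element. -/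
def quadSearch (R : ℕ → ℕ → ℕ) (U m b0 b1 b2 b3 : ℕ) (L0 L1 L2 L3 : List ℕ) (tb : ℕ → ℕ)
    (KW : List (List ℕ)) : Bool :=
  L0.all fun q0 => L1.all fun q1 => !(same R U m b0 b1 q0 q1) ||
    L2.all fun q2 => !(same R U m b0 b2 q0 q2 && same R U m b1 b2 q1 q2) ||
      L3.all fun q3 => !(same R U m b0 b3 q0 q3 && same R U m b1 b3 q1 q3 && same R U m b2 b3 q2 q3) ||
        KW.any fun w => Nat.beq (walk tb w b0) q0 && Nat.beq (walk tb w b1) q1 &&
          Nat.beq (walk tb w b2) q2 && Nat.beq (walk tb w b3) q3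

variable {G : Type*} [Group G] {n : ℕ} {φ : G →* Equiv.Perm (Fin n)} {R : ℕ → ℕ → ℕ}

theorem same_of_commute (hR : IsInvariant φ R) {u g : G} (hg : Commute g u) {U : ℕ}
    (hU : ∀ i : Fin n, (img φ u i).val = ext U i) :
    ∀ (m : ℕ) (i j : Fin n), same R U m i j (img φ g i) (img φ g j) = true := by
  intro m
  induction m with
  | zero => intro i j; rfl
  | succ m ih =>
    intro i j
    show (Nat.beq (R i j) (R (img φ g i) (img φ g j)) &&
      force (ext U j) fun a => force (ext U (img φ g j)) fun b =>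
        same R U m i a (img φ g i) b) = true
    rw [Bool.and_eq_true]
    refine ⟨by rw [hR g i j]; exact Nat.beq_refl _, ?_⟩
    simp only [force_eq]
    rw [← hU, ← hU, ← img_mul, hg.eq, img_mul]
    exact ih i (img φ u j)

/-- **The centraliser of an element is among the listed words.** -/
theorem exists_eq_of_commute {d : ℕ} (hd : n ≤ 2 ^ d) (hR : IsInvariant φ R)
    {b0 b1 b2 b3 : ℕ} (hB : IsBase φ [b0, b1, b2, b3]) (hb0 : b0 < n) (hb1 : b1 < n) (hb2 : b2 < n)
    (hb3 : b3 < n) {x : ℕ → G} {k : ℕ} {tb : ℕ → ℕ} (hx : HasTables φ x k tb) {c : ℕ} (hc : c < k)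
    {L0 L1 L2 L3 : List ℕ} {KW : List (List ℕ)} (hKW : ∀ w ∈ KW, ∀ a ∈ w, a < k) {m : ℕ}
    (h0 : allR (profEntry R n (tb c) m b0 L0) d 0 = true)
    (h1 : allR (profEntry R n (tb c) m b1 L1) d 0 = true)
    (h2 : allR (profEntry R n (tb c) m b2 L2) d 0 = true)
    (h3 : allR (profEntry R n (tb c) m b3 L3) d 0 = true)
    (hs : quadSearch R (tb c) m b0 b1 b2 b3 L0 L1 L2 L3 tb KW = true)
    {g : G} (hg : Commute g (x c)) : ∃ w ∈ KW, g = prodw x w := by
  have hU : ∀ i : Fin n, (img φ (x c) i).val = ext (tb c) i := hx c hc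
  have hsame := same_of_commute hR hg hU m
  have hmem : ∀ {b : ℕ} {L : List ℕ} (hb : b < n), allR (profEntry R n (tb c) m b L) d 0 = true →
      ∃ q ∈ L, q = (img φ g ⟨b, hb⟩).val := by
    intro b L hb h
    have h' := allR_spec d 0 h (img φ g ⟨b, hb⟩).val (Nat.zero_le _)
      (by have := (img φ g ⟨b, hb⟩).isLt; omega)
    unfold profEntry at h'
    rw [show Nat.blt (img φ g ⟨b, hb⟩).val n = true by simp, cond_true] at h'
    have hp := hsame ⟨b, hb⟩ (img φ (x c) ⟨b, hb⟩)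
    rw [← img_mul, ← hg.eq, img_mul, hU, hU] at hp
    rw [hp, Bool.not_true, Bool.false_or, memN, List.any_eq_true] at h'
    obtain ⟨q, hq, he⟩ := h'
    exact ⟨q, hq, Nat.eq_of_beq_eq_true he⟩
  obtain ⟨q0, m0, e0⟩ := hmem hb0 h0
  obtain ⟨q1, m1, e1⟩ := hmem hb1 h1
  obtain ⟨q2, m2, e2⟩ := hmem hb2 h2
  obtain ⟨q3, m3, e3⟩ := hmem hb3 h3
  simp only [quadSearch, List.all_eq_true, Bool.or_eq_true, Bool.not_eq_true'] at hs
  have s01 := hsame ⟨b0, hb0⟩ ⟨b1, hb1⟩
  have s02 := hsame ⟨b0, hb0⟩ ⟨b2, hb2⟩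
  have s03 := hsame ⟨b0, hb0⟩ ⟨b3, hb3⟩
  have s12 := hsame ⟨b1, hb1⟩ ⟨b2, hb2⟩
  have s13 := hsame ⟨b1, hb1⟩ ⟨b3, hb3⟩
  have s23 := hsame ⟨b2, hb2⟩ ⟨b3, hb3⟩
  simp only [← e0, ← e1, ← e2, ← e3] at s01 s02 s03 s12 s13 s23
  have t1 := (hs q0 m0 q1 m1).resolve_left (by rw [s01]; simp)
  have t2 := (t1 q2 m2).resolve_left (by rw [s02, s12]; simp)
  have t3 := (t2 q3 m3).resolve_left (by rw [s03, s13, s23]; simp)
  simp only [List.any_eq_true, Bool.and_eq_true] at t3
  obtain ⟨w, hw, ⟨⟨⟨w0, w1⟩, w2⟩, w3⟩⟩ := t3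
  refine ⟨w, hw, hB _ _ fun i hi => Fin.ext ?_⟩
  rw [img_prodw hx w (hKW w hw)]
  simp only [List.mem_cons, List.not_mem_nil, or_false] at hi
  rcases hi with h | h | h | h
  · rw [show i = ⟨b0, hb0⟩ from Fin.ext h, ← e0]; exact (Nat.eq_of_beq_eq_true w0).symm
  · rw [show i = ⟨b1, hb1⟩ from Fin.ext h, ← e1]; exact (Nat.eq_of_beq_eq_true w1).symm
  · rw [show i = ⟨b2, hb2⟩ from Fin.ext h, ← e2]; exact (Nat.eq_of_beq_eq_true w2).symm
  · rw [show i = ⟨b3, hb3⟩ from Fin.ext h, ← e3]; exact (Nat.eq_of_beq_eq_true w3).symm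

end

end CfsgLib.PresentedOut
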